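import Groth.Agent.RichLib.FieldExtComponents
import Mathlib

/-!
# Maximal points of the fibres of `G ⊗_k K → G` lying in a dense open subset
-/

set_option autoImplicit false
set_option linter.all false
noncomputable section
universe u

open CategoryTheory CategoryTheory.Limits AlgebraicGeometry TopologicalSpace

namespace MaxFibLib

/-- There are no specializations in the fibres of an integral morphism. -/
theorem eq_of_specializes {X W : Scheme.{u}} (g : X ⟶ W) [IsIntegralHom g] {x x' : X} (h : x ⤳ x')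
    (e : g x = g x') : x = x' := by
  obtain ⟨V, hV, hxV, -⟩ := exists_isAffineOpen_mem_and_subset (X := W) (x := g x') (U := ⊤) trivial
  have hU : IsAffineOpen (g ⁻¹ᵁ V) := IsAffineHom.isAffine_preimage V hV
  have hx' : x' ∈ g ⁻¹ᵁ V := hxV
  have hx : x ∈ g ⁻¹ᵁ V := h.mem_open (g ⁻¹ᵁ V).2 hx'
  have hint : (g.appLE V (g ⁻¹ᵁ V) le_rfl).hom.IsIntegral := by
    simpa [Scheme.Hom.app_eq_appLE] using IsIntegralHom.isIntegral_app g V hV
  letI := (g.appLE V (g ⁻¹ᵁ V) le_rfl).hom.toAlgebra
  haveI : Algebra.IsIntegral Γ(W, V) Γ(X, g ⁻¹ᵁ V) := ⟨hint⟩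
  let P := hU.primeIdealOf ⟨x, hx⟩
  let Q := hU.primeIdealOf ⟨x', hx'⟩
  have hle : P.asIdeal ≤ Q.asIdeal := by
    refine (PrimeSpectrum.le_iff_specializes P Q).2 ?_
    refine hU.fromSpec.isOpenEmbedding.toIsInducing.specializes_iff.1 ?_
    rw [hU.fromSpec_primeIdealOf, hU.fromSpec_primeIdealOf]
    exact h
  have h1 : ∀ (z : X) (hz : z ∈ g ⁻¹ᵁ V), P.asIdeal.comap (algebraMap Γ(W, V) Γ(X, g ⁻¹ᵁ V)) =
      P.asIdeal.comap (g.appLE V (g ⁻¹ᵁ V) le_rfl).hom := fun _ _ => rfl
  have hkey : ∀ (z : X) (hz : z ∈ g ⁻¹ᵁ V),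
      (hU.primeIdealOf ⟨z, hz⟩).asIdeal.comap (g.appLE V (g ⁻¹ᵁ V) le_rfl).hom =
        (hV.primeIdealOf ⟨g z, hz⟩).asIdeal := by
    intro z hz
    have hcomp := IsAffineOpen.SpecMap_appLE_fromSpec g hV hU (le_rfl : g ⁻¹ᵁ V ≤ g ⁻¹ᵁ V)
    have := congrArg (fun φ => φ (hU.primeIdealOf ⟨z, hz⟩)) hcomp
    change hV.fromSpec (Spec.map (g.appLE V (g ⁻¹ᵁ V) le_rfl) (hU.primeIdealOf ⟨z, hz⟩)) =
      g (hU.fromSpec (hU.primeIdealOf ⟨z, hz⟩)) at this
    rw [hU.fromSpec_primeIdealOf] at this
    have h2 : Spec.map (g.appLE V (g ⁻¹ᵁ V) le_rfl) (hU.primeIdealOf ⟨z, hz⟩) = hV.primeIdealOf ⟨g z, hz⟩ :=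
      hV.fromSpec.isOpenEmbedding.injective (this.trans (hV.fromSpec_primeIdealOf ⟨g z, hz⟩).symm)
    exact congrArg PrimeSpectrum.asIdeal h2
  have hc : P.asIdeal.comap (algebraMap Γ(W, V) Γ(X, g ⁻¹ᵁ V)) = Q.asIdeal.comap (algebraMap Γ(W, V) Γ(X, g ⁻¹ᵁ V)) := by
    change P.asIdeal.comap (g.appLE V (g ⁻¹ᵁ V) le_rfl).hom = Q.asIdeal.comap (g.appLE V (g ⁻¹ᵁ V) le_rfl).hom
    rw [hkey x hx, hkey x' hx']
    congr 2
    exact Subtype.ext e
  have hPQ : P = Q := PrimeSpectrum.ext (le_antisymm hle fun b hb => by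
    by_contra hbP
    exact (Ideal.comap_lt_comap_of_integral_mem_sdiff (R := Γ(W, V)) hle ⟨hb, hbP⟩
      (Algebra.IsIntegral.isIntegral b)).ne hc)
  have := congrArg hU.fromSpec hPQ
  rwa [hU.fromSpec_primeIdealOf, hU.fromSpec_primeIdealOf] at this

/-- A maximal point lies in every dense open subset. -/
theorem mem_of_dense {X : Type u} [TopologicalSpace X] [NoetherianSpace X] [QuasiSober X]
    {U : Set X} (hU : IsOpen U) (hd : Dense U) {x : X} (hx : ∀ y, y ⤳ x → y = x) : x ∈ U := by
  have hZ : closure {x} ∈ irreducibleComponents X := by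
    refine ⟨isIrreducible_singleton.closure, fun S hS hle => ?_⟩
    have hg : IsGenericPoint hS.genericPoint (closure S) := hS.isGenericPoint_genericPoint_closure
    have hsp : hS.genericPoint ⤳ x := hg.specializes (subset_closure (hle (subset_closure rfl)))
    rw [hx _ hsp] at hg
    exact fun z hz => hg.def.symm ▸ subset_closure hz
  obtain ⟨o, ho, hne, hoZ⟩ := NoetherianSpace.exists_isOpen_nonempty_subset_irreducibleComponent _ hZ
  obtain ⟨z, hzo, hzU⟩ := hd.inter_open_nonempty o ho hne
  exact (specializes_iff_mem_closure.2 (hoZ hzo)).mem_open hU hzU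

/-- In a quasi-sober space, the points with closure an irreducible component are the maximal points. -/
theorem closure_mem_iff {X : Type u} [TopologicalSpace X] [QuasiSober X] [T0Space X] (x : X) :
    closure {x} ∈ irreducibleComponents X ↔ ∀ y, y ⤳ x → y = x := by
  refine ⟨fun h y hy => ?_, fun hx => ⟨isIrreducible_singleton.closure, fun S hS hle => ?_⟩⟩
  · have h2 := h.2 (y := closure {y}) isIrreducible_singleton.closure (specializes_iff_closure_subset.1 hy)
    exact (hy.antisymm (specializes_iff_closure_subset.2 h2)).eq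
  · have hg : IsGenericPoint hS.genericPoint (closure S) := hS.isGenericPoint_genericPoint_closure
    have hsp : hS.genericPoint ⤳ x := hg.specializes (subset_closure (hle (subset_closure rfl)))
    rw [hx _ hsp] at hg
    exact fun z hz => hg.def.symm ▸ subset_closure hz

section geom

variable (k : Type u) [Field k]

/-- A purely transcendental extension is geometrically irreducible. -/
theorem geomIrreducible_ratFunc (ι : Type u) (L : Type u) [Field L] [Algebra k L]
    [Algebra (MvPolynomial ι k) L] [IsScalarTower k (MvPolynomial ι k) L] [IsFractionRing (MvPolynomial ι k) L] :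
    GeometricallyIrreducible (Spec.map (CommRingCat.ofHom (algebraMap k L))) := by
  rw [geometricallyIrreducible_iff, geometrically_iff_of_commRing_of_isClosedUnderIsomorphisms]
  intro K _ _
  haveI : IsDomain (TensorProduct k L K) :=
    RichLib.FieldExtComp.isDomain_tensor_fractionRing k K L ι
  exact Function.Surjective.irreducibleSpace (pullbackSpecIso k L K).hom.homeomorph.symm.continuous
    (pullbackSpecIso k L K).hom.homeomorph.symm.surjective

end geom

theorem main (k : Type u) [Field k] (K : Type u) [Field K] [Algebra k K]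
    (G : Scheme.{u}) (f : G ⟶ Spec (CommRingCat.of k)) [LocallyOfFiniteType f] [QuasiCompact f]
    (W : (pullback f (Spec.map (CommRingCat.ofHom (algebraMap k K)))).Opens)
    (hW : Dense (W : Set ↥(pullback f (Spec.map (CommRingCat.ofHom (algebraMap k K)))))) :
    letI π := (pullback.fst f (Spec.map (CommRingCat.ofHom (algebraMap k K)))).base
    letI U : Set G := {g : G | ∀ z : ↥(π ⁻¹' {g}), closure {z} ∈ irreducibleComponents ↥(π ⁻¹' {g}) → z.1 ∈ W}
    IsOpen U ∧ Dense U := by
  obtain ⟨s, hs⟩ := exists_isTranscendenceBasis k K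
  let A := MvPolynomial s k
  let L := FractionRing A
  let φA : A →ₐ[k] K := MvPolynomial.aeval (Subtype.val : s → K)
  have hφA : Function.Injective φA := hs.1
  letI : Algebra L K := (IsFractionRing.lift (K := L) hφA).toAlgebra
  letI : Algebra A K := φA.toRingHom.toAlgebra
  haveI : IsScalarTower A L K := IsScalarTower.of_algebraMap_eq fun a => (IsFractionRing.lift_algebraMap hφA a).symm
  haveI : IsScalarTower k L K := IsScalarTower.of_algebraMap_eq fun c => by
    rw [IsScalarTower.algebraMap_apply k A L, ← IsScalarTower.algebraMap_apply A L K]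
    exact (φA.commutes c).symm
  haveI : Algebra.IsAlgebraic L K := by
    refine ⟨fun x => ?_⟩
    haveI : Algebra.IsAlgebraic (Algebra.adjoin k (Set.range (Subtype.val : s → K))) K := hs.isAlgebraic
    haveI : Algebra.IsAlgebraic A K := ⟨fun x => by
      obtain ⟨P, hP, hPx⟩ := Algebra.IsAlgebraic.isAlgebraic (R := Algebra.adjoin k (Set.range (Subtype.val : s → K))) x
      refine ⟨P.map hs.1.aevalEquiv.symm.toAlgHom.toRingHom,
        (Polynomial.map_ne_zero_iff hs.1.aevalEquiv.symm.injective).2 hP, ?_⟩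
      rw [Polynomial.aeval_def, Polynomial.eval₂_map, ← hPx, Polynomial.aeval_def]
      congr 1
      refine RingHom.ext fun y => ?_
      show φA (hs.1.aevalEquiv.symm y) = (y : K)
      exact (hs.1.algebraMap_aevalEquiv (hs.1.aevalEquiv.symm y)).symm.trans
        (by rw [AlgEquiv.apply_symm_apply]; rfl)⟩
    exact (Algebra.IsAlgebraic.isAlgebraic (R := A) x).extendScalars (IsFractionRing.injective A L)
  haveI : Algebra.IsIntegral L K := Algebra.IsAlgebraic.isIntegral
  haveI := geomIrreducible_ratFunc k s L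
  let sK := Spec.map (CommRingCat.ofHom (algebraMap k K))
  let sL := Spec.map (CommRingCat.ofHom (algebraMap k L))
  let tK := Spec.map (CommRingCat.ofHom (algebraMap L K))
  have htK : tK ≫ sL = sK := by
    rw [← Spec.map_comp, ← CommRingCat.ofHom_comp, ← IsScalarTower.algebraMap_eq k L K]
  let pT := pullback.fst f sL
  let p1 : pullback f sK ⟶ pullback f sL :=
    pullback.lift (pullback.fst f sK) (pullback.snd f sK ≫ tK) (by rw [Category.assoc, htK, pullback.condition])
  have hp1 : p1 ≫ pT = pullback.fst f sK := pullback.lift_fst ..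
  have hsq : IsPullback p1 (pullback.snd f sK) (pullback.snd f sL) tK := by
    refine IsPullback.of_right ?_ (pullback.lift_snd ..) (IsPullback.of_hasPullback f sL)
    rw [hp1, htK]
    exact IsPullback.of_hasPullback f sK
  haveI hi : IsIntegralHom p1 := MorphismProperty.of_isPullback hsq.flip
    (IsIntegralHom.SpecMap_iff.2 (algebraMap_isIntegral_iff.2 inferInstance))
  haveI hfl : Flat p1 := MorphismProperty.of_isPullback hsq.flip
    (HasRingHomProperty.Spec_iff.2 ((RingHom.flat_algebraMap_iff).2 inferInstance))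
  have hgen : GeneralizingMap p1 := Flat.generalizingMap p1
  -- generic points of the fibres of `pT`
  let ξ : G → ↥(pullback f sL) := fun g => pT.fiberι g (genericPoint (pT.fiber g))
  have hξ : ∀ g, pT (ξ g) = g := fun g => by
    have : ξ g ∈ Set.range (pT.fiberι g) := ⟨_, rfl⟩
    rwa [pT.range_fiberι] at this
  have hξs : ∀ g y, pT y = g → ξ g ⤳ y := fun g y hy => by
    obtain ⟨w, rfl⟩ : y ∈ Set.range (pT.fiberι g) := by rw [pT.range_fiberι]; exact hy
    exact (genericPoint_specializes w).map (pT.fiberι g).continuous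
  have hπ : ∀ z, pullback.fst f sK z = pT (p1 z) := fun z => by
    rw [← Scheme.Hom.comp_apply, hp1]
  -- the maximal points of the fibres are the points over the generic points
  have hmax : ∀ g (z : ↥((pullback.fst f sK) ⁻¹' {g})),
      closure {z} ∈ irreducibleComponents ↥((pullback.fst f sK) ⁻¹' {g}) ↔ p1 z.1 = ξ g := by
    intro g z
    haveI : QuasiSober ↥((pullback.fst f sK) ⁻¹' {g}) :=
      ((pullback.fst f sK).fiberHomeo g).symm.isClosedEmbedding.quasiSober
    have hzg : pT (p1 z.1) = g := (hπ z.1).symm.trans z.2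
    rw [closure_mem_iff]
    constructor
    · intro h
      obtain ⟨w, hw, hwp⟩ := hgen (hξs g _ hzg)
      have hwg : pullback.fst f sK w = g := by rw [hπ, hwp, hξ]
      have := h ⟨w, hwg⟩ ((subtype_specializes_iff _ _).2 hw)
      rw [← this]; exact hwp
    · intro h y hy
      have hy' : y.1 ⤳ z.1 := (subtype_specializes_iff _ _).1 hy
      have h1 : p1 y.1 ⤳ p1 z.1 := hy'.map p1.continuous
      have h2 : p1 z.1 ⤳ p1 y.1 := by
        rw [h]; exact hξs g _ ((hπ y.1).symm.trans y.2)
      exact Subtype.ext (eq_of_specializes p1 hy' (h1.antisymm h2).eq)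
  let Z' : Set ↥(pullback f sL) := p1 '' (W : Set ↥(pullback f sK))ᶜ
  have hZ' : IsClosed Z' := p1.isClosedMap _ W.2.isClosed_compl
  have hUeq : {g : G | ∀ z : ↥((pullback.fst f sK) ⁻¹' {g}),
      closure {z} ∈ irreducibleComponents ↥((pullback.fst f sK) ⁻¹' {g}) → z.1 ∈ W} = pT '' Z'ᶜ := by
    ext g
    constructor
    · intro hg
      refine ⟨ξ g, ?_, hξ g⟩
      rintro ⟨z, hzW, hz⟩
      have hzg : pullback.fst f sK z = g := by rw [hπ, hz, hξ]
      exact hzW (hg ⟨z, hzg⟩ ((hmax g ⟨z, hzg⟩).2 hz))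
    · rintro ⟨y, hy, hyg⟩ z hz
      by_contra hzW
      refine hy ((hξs g y hyg).mem_closed hZ' ?_)
      exact ⟨z.1, hzW, (hmax g z).1 hz⟩
  refine ⟨?_, fun g => ?_⟩
  · change IsOpen {g : G | ∀ z : ↥((pullback.fst f sK) ⁻¹' {g}),
      closure {z} ∈ irreducibleComponents ↥((pullback.fst f sK) ⁻¹' {g}) → z.1 ∈ W}
    rw [hUeq]
    exact pT.isOpenMap _ hZ'.isOpen_compl
  · obtain ⟨C, hC, hgC⟩ := exists_mem_irreducibleComponents_subset_of_isIrreducible {g} isIrreducible_singleton
    have hCg := hC.1.isGenericPoint_genericPoint (isClosed_of_mem_irreducibleComponents C hC)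
    set η := hC.1.genericPoint
    have hη : ∀ y, y ⤳ η → y = η := by
      refine (closure_mem_iff η).1 ?_
      rwa [hCg.def]
    refine (hCg.specializes (hgC rfl)).mem_closed isClosed_closure (subset_closure ?_)
    haveI : IsLocallyNoetherian (pullback f sK) :=
      LocallyOfFiniteType.isLocallyNoetherian (pullback.snd f sK)
    haveI : CompactSpace ↥(pullback f sK) := QuasiCompact.compactSpace_of_compactSpace (pullback.snd f sK)
    haveI : IsNoetherian (pullback f sK) := {}
    haveI : QuasiSober ↥((pullback.fst f sK) ⁻¹' {η}) :=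
      ((pullback.fst f sK).fiberHomeo η).symm.isClosedEmbedding.quasiSober
    intro z hz
    refine mem_of_dense W.2 hW fun y hy => ?_
    have h1 : pullback.fst f sK y ⤳ pullback.fst f sK z.1 := hy.map (pullback.fst f sK).continuous
    rw [show pullback.fst f sK z.1 = η from z.2] at h1
    have hyη := hη _ h1
    exact congrArg Subtype.val ((closure_mem_iff z).1 hz ⟨y, hyη⟩ ((subtype_specializes_iff _ _).2 hy))

end MaxFibLib
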